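import Cfsg.Agent.H42.S8.Soc
import Cfsg.Agent.H245.S8.SocAltRows
import Cfsg.Agent.H409.S8.SocOne
import Cfsg.Agent.H678.S8.HSNo
import Cfsg.Agent.H858.TwoHS
import Cfsg.Agent.H511.Ore.Deg
import Cfsg.Agent.H603.FD.Spor
import Cfsg.Agent.H672.SporIM.RankRows
import Cfsg.Agent.H678.DG.McL
import Cfsg.Agent.H417.RecogMathieu

/-!
# S4908: the row SOC1 of `HS` (helper87)

The residues of the degrees of `HS` modulo 7 and 11, and `512 ∉ charDegrees HS` (helper678).
-/

set_option autoImplicit false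
set_option maxRecDepth 100000

universe u v

namespace Cfsg.Agent.H87.S8.HSOne

open Cfsg Subgroup Cfsg.Agent.H704.S8
open Cfsg.Agent.H691.AN (AlmostSimple)
open Cfsg.Agent.H651.Two Cfsg.Agent.H511.Ore
open Cfsg.Agent.H424.DegTools (mem_charDegrees charDegrees_of_surjective charDegrees_congr dvd_card clifford_down
  clifford_up pos_of_mem)

/-- the sieve for the degrees of `HS` -/
def ok (d : ℕ) : Bool :=
  [0, 1, 6].contains (d % 7) && [0, 1, 5, 6, 10].contains (d % 11) && Nat.beq (44352000 % d) 0 && !(Nat.beq d 512)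

/-- the sieve for the degrees of the almost simple groups -/
def okk (d : ℕ) : Bool := ok d || (Nat.beq (d % 2) 0 && ok (d / 2))

theorem of_any {l : List (ℕ × ℤ)} {m : ℕ} (h : (l.any fun rw => Nat.beq m rw.1) = true) : m ∈ l.map Prod.fst := by
  obtain ⟨x, hx, h1⟩ := List.any_eq_true.1 h
  rw [Nat.eq_of_beq_eq_true h1]
  exact List.mem_map_of_mem hx

section

variable {X : Type v} [Group X] [Finite X] (hX : Spor.IsoHS X)

include hX

omit [Finite X] in
theorem simple : IsSimpleGroup X := by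
  obtain ⟨e⟩ := hX
  obtain ⟨⟨f⟩, hs⟩ := Cfsg.Agent.HN.AutHS.nonempty_Q
  exact (f.trans e.symm).symm.isSimpleGroup

theorem not_comm : ¬ IsMulCommutative X := by
  have hQ := NotCT.Orders.hs hX
  intro hcm
  have : Fact (Nat.Prime 11) := ⟨by norm_num⟩
  obtain ⟨y, hy⟩ := exists_prime_orderOf_dvd_card' (G := X) 11 (by rw [hQ]; norm_num)
  have hy' := H904.HSIso.card_eleven hX hy
  have h1 : centralizer ({y} : Set X) = ⊤ := by
    rw [eq_top_iff]
    intro z _
    rw [mem_centralizer_singleton_iff]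
    exact hcm.is_comm.comm z y
  rw [h1, card_top, hQ] at hy'
  exact absurd hy' (by norm_num)

theorem deg_ok {d : ℕ} (hd : d ∈ charDegrees X) : ok d = true := by
  have := simple hX
  have hc := NotCT.Orders.hs hX
  have h512 := H678.S8.no512 hX
  have hdv := dvd_card hd
  have hne : d ≠ 512 := fun h => h512 (h ▸ hd)
  have a7 : (⟨7, 1, 6, 1, [(0, 0), (1, 1), (6, -1)], 0, false⟩ : CD).Has X :=
    has_of_forall (by norm_num) (by rw [hc]; norm_num) fun x hx => H904.HSIso.card_seven hX hx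
  have a11 : (⟨11, 1, 5, 2, [(0, 0), (1, 2), (5, -1), (6, 1), (10, -2)], 2, true⟩ : CD).Has X :=
    has_of_forall (by norm_num) (by rw [hc]; norm_num) fun x hx => H904.HSIso.card_eleven hX hx
  obtain ⟨χ, rfl⟩ := hd
  have h1 := of_any (res_of_has (not_comm hX) hc a7 (by decide +kernel) χ)
  have h2 := of_any (res_of_has (not_comm hX) hc a11 (by decide +kernel) χ)
  rw [hc] at hdv
  simp only [ok, Bool.and_eq_true]
  refine ⟨⟨⟨List.contains_iff_mem.2 h1, List.contains_iff_mem.2 h2⟩, ?_⟩, ?_⟩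
  · rw [Nat.beq_eq]
    exact Nat.mod_eq_zero_of_dvd hdv
  · have : Nat.beq (charDegree (χ : X → ℂ)) 512 = false := by
      rcases h : Nat.beq (charDegree (χ : X → ℂ)) 512 with _ | _
      · rfl
      · exact absurd (Nat.eq_of_beq_eq_true h) hne
    rw [this]
    rfl

theorem out_dvd : (MulAut.conj : X →* MulAut X).range.index ∣ 2 :=
  H149.Sp.card_out_dvd_two (by unfold IsSporadicGroup; tauto)

theorem deg_okk {D : Set ℕ} (hD : Deg 2 X D) {d : ℕ} (hd : d ∈ D) : okk d = true := by
  rcases hD with rfl | ⟨-, rfl⟩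
  · rw [okk, deg_ok hX hd, Bool.true_or]
  · have hN : ((MulAut.conj : X →* MulAut X).range).Normal := by
      refine ⟨?_⟩
      rintro _ ⟨x, rfl⟩ g
      exact ⟨g x, by
        ext y
        simp⟩
    obtain ⟨e, he, ⟨t, rfl⟩, h2⟩ := clifford_down ((MulAut.conj : X →* MulAut X).range) hd
    have he' : e ∈ charDegrees X :=
      charDegrees_of_surjective (MulAut.conj : X →* MulAut X).rangeRestrict
        (MonoidHom.rangeRestrict_surjective _) he
    have he0 := pos_of_mem he
    rw [Nat.mul_div_cancel_left _ he0] at h2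
    have h4 := h2.trans (out_dvd hX)
    have h5 : t = 1 ∨ t = 2 := (Nat.dvd_prime Nat.prime_two).1 h4
    rcases h5 with rfl | rfl
    · rw [mul_one, okk, deg_ok hX he', Bool.true_or]
    · rw [okk, Nat.mul_mod_left, Nat.mul_div_left _ (by norm_num), deg_ok hX he']
      simp

theorem not_ppow : ∀ d ∈ charDegrees X, ¬ IsPrimePow d := by
  intro d hd hp
  have h1 := deg_ok hX hd
  obtain ⟨r, v, hr, hv, rfl⟩ := hp
  have hr' := hr.nat_prime
  have h2 : r ^ v ∣ 44352000 := by
    have := dvd_card hd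
    rwa [NotCT.Orders.hs hX] at this
  have h3 : r ∈ [(11, 1), (7, 1), (5, 3), (3, 2), (2, 9)].map Prod.fst := by
    exact prime_mem hr' H858.TwoHS.facs_prime H858.TwoHS.facs_prod ((dvd_pow_self r hv.ne').trans h2)
  have h4 : v < 26 := by
    by_contra hcon
    have h5 : 2 ^ 26 ≤ r ^ v := (Nat.pow_le_pow_right (by norm_num) (by omega)).trans (Nat.pow_le_pow_left hr'.two_le v)
    have h6 := Nat.le_of_dvd (by norm_num) h2
    omega
  have key : ∀ r ∈ [(11, 1), (7, 1), (5, 3), (3, 2), (2, 9)].map Prod.fst, ∀ v ∈ List.range 26, 0 < v →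
      ok (r ^ v) = false := by
    decide +kernel
  rw [key r h3 v (List.mem_range.2 h4) hv] at h1
  exact absurd h1 (by decide)

end

/-- the primes dividing the degrees -/
theorem prime_okk {d : ℕ} (h : okk d = true) {p : ℕ} (hp : p.Prime) (hpd : p ∣ d) : p ∈ [2, 3, 5, 7, 11, 23] := by
  have h1 : d ∣ 2 * 44352000 := by
    simp only [okk, ok, Bool.or_eq_true, Bool.and_eq_true] at h
    rcases h with ⟨⟨-, h⟩, -⟩ | ⟨h0, ⟨⟨-, h⟩, -⟩⟩
    · exact (Nat.dvd_of_mod_eq_zero (Nat.eq_of_beq_eq_true h)).mul_left 2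
    · have h2 := Nat.dvd_of_mod_eq_zero (Nat.eq_of_beq_eq_true h)
      have h3 := Nat.dvd_of_mod_eq_zero (Nat.eq_of_beq_eq_true h0)
      rw [← Nat.mul_div_cancel' h3]
      exact Nat.mul_dvd_mul_left 2 h2
  have h2 := hpd.trans h1
  rcases hp.dvd_mul.1 h2 with h3 | h3
  · rw [(Nat.prime_dvd_prime_iff_eq hp Nat.prime_two).1 h3]
    decide
  · have h4 := prime_mem hp H858.TwoHS.facs_prime H858.TwoHS.facs_prod h3
    simp only [H858.TwoHS.facs, List.map_cons, List.map_nil, List.mem_cons, List.not_mem_nil, or_false] at h4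
    rcases h4 with rfl | rfl | rfl | rfl | rfl <;> decide

/-- **SOC1 for `HS`** -/
theorem soc1_hs {X : Type v} [Group X] [Finite X] (hX : Spor.IsoHS X) {D : Set ℕ} (hD : Deg 2 X D) :
    Soc1.{u} D X := by
  intro A _ _ S hA hAD
  have hS := hA.normal
  have hs := hA.simple
  have hsX := simple hX
  have hok : ∀ d ∈ charDegrees A, okk d = true := fun d hd => deg_okk hX hD (hAD hd)
  have key : IsSporadicGroup S → ∀ {a : ℕ}, a ∈ charDegrees S → okk a = false → okk (2 * a) = false → False := by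
    intro h a ha h1 h2
    have hi : S.index ∣ 2 :=
      (H816.OutEmb.index_dvd S (by rw [hA.cent]; exact bot_le)).trans (H149.Sp.card_out_dvd_two h)
    rcases H42.S8.Soc.two_deg hA hi ha with h3 | h3
    · have := hok _ h3
      rw [h1] at this
      exact absurd this (by decide)
    · have := hok _ h3
      rw [h2] at this
      exact absurd this (by decide)
  have h23 : ¬ 23 ∣ Nat.card S := by
    intro hd
    obtain ⟨d, hd1, hd2⟩ := H42.S8.Soc.prime_deg hA (by norm_num : Nat.Prime 23) hd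
    obtain ⟨k, rfl⟩ := hd2
    have h1 := H245.S8.deg_prime hD (fun _ => out_dvd hX) (by norm_num : Nat.Prime 23) (by norm_num) _ (hAD hd1)
      (dvd_mul_right 23 k)
    rw [NotCT.Orders.hs hX] at h1
    exact absurd h1 (by norm_num)
  rcases H42.S8.Soc.cases hA fun d hd p hp hpd => prime_okk (hok d hd) hp hpd with
    ⟨m, hm, ⟨e⟩⟩ | ⟨p, hp, h⟩ | h | h | h | h | h | h | h | h | h | h
  · exact ((H245.S8.kills_hs hX).no_alt hD hA hAD hm e).elim
  · exfalso
    obtain ⟨h1, h2⟩ := H42.S8.Soc.lie_deg hA hp h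
    have hn1 : (Nat.card S).factorization p ≠ 0 := (hp.factorization_pos_of_dvd Nat.card_pos.ne' h2).ne'
    have h3 : 3 ≤ p ^ (Nat.card S).factorization p := by
      rcases hp.eq_two_or_odd' with rfl | hodd
      · have h4 := SmallSimple.EvenOrder.four_dvd_card hA.nonab h2
        have h5 : 2 ≤ (Nat.card S).factorization 2 :=
          (Nat.prime_two.pow_dvd_iff_le_factorization Nat.card_pos.ne').1 h4
        have h6 : 2 ^ 2 ≤ 2 ^ (Nat.card S).factorization 2 := Nat.pow_le_pow_right (by norm_num) h5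
        omega
      · have h4 : 3 ≤ p := by
          have := hp.two_le
          rcases hodd with ⟨k, rfl⟩
          omega
        exact h4.trans (Nat.le_self_pow hn1 p)
    exact H409.S8.not_pp hD (fun _ => out_dvd hX) (not_ppow hX) _ (hAD h1) h3 (hp.isPrimePow.pow hn1)
  · exact (key (by unfold IsSporadicGroup; tauto) (H603.FD.Spor.m11 (UGT.End.MEleven.isM11 h)).1 (by decide +kernel)
      (by decide +kernel)).elim
  · exact (key (by unfold IsSporadicGroup; tauto) (H603.FD.Spor.m12 (H603.FD.Spor.isM12 h)).1 (by decide +kernel)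
      (by decide +kernel)).elim
  · exact (key (by unfold IsSporadicGroup; tauto) (H603.FD.Spor.m22 (H417.RecogMathieu.isM22 h)).2.1 (by decide +kernel)
      (by decide +kernel)).elim
  · exact (h23 (by rw [NotCT.Orders.m23 h]; norm_num)).elim
  · exact (h23 (by rw [NotCT.Orders.m24 h]; norm_num)).elim
  · exact (key (by unfold IsSporadicGroup; tauto) (H672.SporIM.j2 h).2 (by decide +kernel) (by decide +kernel)).elim
  · obtain ⟨e⟩ := hX
    obtain ⟨f⟩ := h
    exact ⟨f.trans e.symm⟩
  · obtain ⟨θ, R⟩ := H904.McLCent.exists_rep h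
    let f : S ≃* Cfsg.Agent.McLType.Gens.K0 := (MonoidHom.ofInjective R.inj).trans (MulEquiv.subgroupCongr R.range)
    obtain ⟨χ, hχ⟩ := H678.DG.McLDeg.deg_5103
    exact (key (a := 5103) (by unfold IsSporadicGroup; tauto) (by rw [charDegrees_congr f]; exact ⟨χ, hχ⟩)
      (by decide +kernel) (by decide +kernel)).elim
  · exact (h23 (by rw [NotCT.Orders.co3 h]; norm_num)).elim
  · exact (h23 (by rw [NotCT.Orders.co2 h]; norm_num)).elim

end Cfsg.Agent.H87.S8.HSOne
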